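import Groth.Agent.DimField.Cons
import Groth.Agent.ConsEngine.Stages
import Groth.Agent.ConsEngine.LimComp
import Groth.Agent.ConsEngine.Fiber

universe u

open CategoryTheory CategoryTheory.Limits AlgebraicGeometry Topology TopologicalSpace

namespace Groth.Agent.DimField

theorem dim_fiber_eq_of_isPullback {X X' S S' : Scheme.{u}} {g : X ⟶ S} {g' : X' ⟶ S'} {eX : X' ⟶ X}
    {σ : S' ⟶ S} [LocallyOfFiniteType g] (h : IsPullback eX g' g σ) (s : S') :
    topologicalKrullDim ↥(g'.fiber s) = topologicalKrullDim ↥(g.fiber (σ s)) := by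
  haveI : LocallyOfFiniteType (g.fiberToSpecResidueField (σ s)) := MorphismProperty.pullback_snd _ _ ‹_›
  exact (dim_eq_of_isPullback _ _ _ _ (ConsEngine.isPullback_fiberBC h s)).symm

theorem fibreDimAt_le_dim_fiber {X Y : Scheme.{u}} (f : X ⟶ Y) [LocallyOfFiniteType f] (x : X) {n : ℕ}
    (h : (n : WithBot ℕ∞) ≤ FlatMor.fibreDimAt f x) : (n : WithBot ℕ∞) ≤ topologicalKrullDim ↥(f.fiber (f x)) :=
  (dim_fiber_le_iff f (f x)).mpr ⟨x, h, rfl⟩

variable {I : Type u} [SmallCategory I] [IsCofiltered I] (D : I ⥤ Scheme.{u})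
  [∀ {i j} (f : i ⟶ j), IsAffineHom (D.map f)] (c : Cone D) (hc : IsLimit c)

include hc in
/-- a bound on the fibre dimensions descends to a stage -/
theorem exists_stage_fibreDimAt_le {i₀ : I} {X₀ Y₀ : Scheme.{u}} (f₀ : X₀ ⟶ Y₀) (g₀ : Y₀ ⟶ D.obj i₀)
    [CompactSpace Y₀] [QuasiCompact f₀] [LocallyOfFiniteType f₀] (d : ℕ)
    {X Y : Scheme.{u}} {f : X ⟶ Y} {g : Y ⟶ c.pt} {qY : Y ⟶ Y₀} {qX : X ⟶ X₀}
    (hY : IsPullback qY g g₀ (c.π.app i₀)) (hX : IsPullback qX f f₀ qY)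
    (hd : ∀ x : X, FlatMor.fibreDimAt f x ≤ d) :
    ∃ j : Over i₀, ∀ x, FlatMor.fibreDimAt (LimDesc.stageMap D g₀ f₀ j) x ≤ d := by
  haveI : LocallyOfFiniteType f := MorphismProperty.of_isPullback (P := @LocallyOfFiniteType) hX ‹_›
  let F : Set Y₀ := f₀ '' {x : X₀ | ((d + 1 : ℕ) : WithBot ℕ∞) ≤ FlatMor.fibreDimAt f₀ x}
  have hF : ProCons.IsProConstructible F :=
    S3398.result f₀ _ (ConsEngine.proCons_of_isClosed (isClosed_le_fibreDimAt f₀ (d + 1)))
  let j₀ : Over i₀ := Over.mk (𝟙 i₀)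
  haveI : CompactSpace ((LimDesc.tower D g₀).obj j₀) := LimDesc.compactSpace_stage D g₀ j₀
  haveI : IsIso (D.map j₀.hom) := inferInstanceAs (IsIso (D.map (𝟙 i₀)))
  let b := LimDesc.toBase D g₀ j₀
  have hK : ProCons.IsProConstructible (b ⁻¹' F) := by
    have : (b ⁻¹' F : Set _) = (asIso b).inv '' F := by
      rw [Set.image_eq_preimage_of_inverse (g := b)]
      · exact fun x => by rw [← Scheme.Hom.comp_apply]; exact congr($((asIso b).inv_hom_id) x)
      · exact fun x => by rw [← Scheme.Hom.comp_apply]; exact congr($((asIso b).hom_inv_id) x)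
    rw [this]
    exact S3398.result _ _ hF
  obtain ⟨j, a, hj⟩ := ConsEngine.exists_preimage_eq_empty (LimDesc.tower D g₀) (LimDesc.towerCone D g₀ c hY)
    (LimDesc.isLimitTowerCone D g₀ c hY hc) j₀ hK (by
      refine Set.eq_empty_of_forall_notMem fun y hy => ?_
      change b (LimDesc.proj D g₀ c hY j₀ y) ∈ F at hy
      rw [← Scheme.Hom.comp_apply, LimDesc.proj_toBase] at hy
      have h1 := (dim_fiber_le_iff f₀ (qY y)).mpr hy
      rw [← dim_fiber_eq_of_isPullback hX y] at h1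
      obtain ⟨x, hx, -⟩ := (dim_fiber_le_iff f y).mp h1
      have := (le_trans hx (hd x))
      exact absurd (show d + 1 ≤ d by exact_mod_cast this) (by omega))
  refine ⟨j, fun x => ?_⟩
  haveI : LocallyOfFiniteType (LimDesc.stageMap D g₀ f₀ j) :=
    MorphismProperty.of_isPullback (P := @LocallyOfFiniteType) (LimDesc.isPullback_stageMap D g₀ f₀ j) ‹_›
  by_contra hx
  have h1 := fibreDimAt_le_dim_fiber _ x (natCast_add_one_le (not_le.mp hx))
  rw [dim_fiber_eq_of_isPullback (LimDesc.isPullback_stageMap D g₀ f₀ j)] at h1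
  refine (Set.eq_empty_iff_forall_notMem.mp hj) (LimDesc.stageMap D g₀ f₀ j x) ?_
  show b (LimDesc.trans D g₀ a (LimDesc.stageMap D g₀ f₀ j x)) ∈ F
  rw [← Scheme.Hom.comp_apply (f := LimDesc.trans D g₀ a), LimDesc.trans_toBase]
  exact (dim_fiber_le_iff f₀ _).mp h1

end Groth.Agent.DimField
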