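import Groth.Agent.DimField.Ring
import Groth.Agent.Unibranch.FibreChains
import Mathlib.AlgebraicGeometry.Morphisms.FiniteType
import Mathlib.AlgebraicGeometry.Pullbacks

universe u

open CategoryTheory CategoryTheory.Limits AlgebraicGeometry Topology TopologicalSpace TensorProduct

namespace Groth.Agent.DimField

theorem dim_eq_of_homeomorph {α β : Type u} [TopologicalSpace α] [TopologicalSpace β] (e : α ≃ₜ β) :
    topologicalKrullDim α = topologicalKrullDim β :=
  le_antisymm e.isInducing.topologicalKrullDim_le e.symm.isInducing.topologicalKrullDim_le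

theorem dim_pullback_Spec (K L A : Type u) [Field K] [Field L] [Algebra K L] [CommRing A] [Algebra K A]
    [Algebra.FiniteType K A] :
    topologicalKrullDim ↥(pullback (Spec.map (CommRingCat.ofHom (algebraMap K A)))
      (Spec.map (CommRingCat.ofHom (algebraMap K L)))) = topologicalKrullDim ↥(Spec (.of A)) := by
  rw [dim_eq_of_homeomorph (pullbackSpecIso K A L).hom.homeomorph]
  show topologicalKrullDim (PrimeSpectrum (A ⊗[K] L)) = topologicalKrullDim (PrimeSpectrum A)
  rw [PrimeSpectrum.topologicalKrullDim_eq_ringKrullDim, PrimeSpectrum.topologicalKrullDim_eq_ringKrullDim,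
    ringKrullDim_eq_of_ringEquiv (Algebra.TensorProduct.comm K A L).toRingEquiv, ringKrullDim_tensor]

theorem isField_Γ {T : Scheme.{u}} [IsIntegral T] [Subsingleton T] [IsAffine T] : IsField Γ(T, ⊤) := by
  haveI : Nonempty T := inferInstance
  haveI : Nonempty (⊤ : T.Opens) := ⟨⟨Classical.arbitrary T, trivial⟩⟩
  by_contra h
  obtain ⟨I, hI, hI'⟩ := Ring.not_isField_iff_exists_ideal_bot_lt_and_lt_top.mp h
  obtain ⟨m, hm, hle⟩ := Ideal.exists_le_maximal I (ne_of_lt hI')
  let e := T.isoSpec.hom.homeomorph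
  have hss : Subsingleton (PrimeSpectrum Γ(T, ⊤)) := e.symm.injective.subsingleton
  have := congrArg PrimeSpectrum.asIdeal
    (Subsingleton.elim (⟨⊥, Ideal.isPrime_bot⟩ : PrimeSpectrum Γ(T, ⊤)) ⟨m, hm.isPrime⟩)
  exact hI.ne (le_bot_iff.mp (hle.trans this.ge)).symm

theorem isAffine_of_subsingleton (T : Scheme.{u}) [Subsingleton T] : IsAffine T := by
  by_cases h : Nonempty T
  · obtain ⟨U, hU, hx, -⟩ := exists_isAffineOpen_mem_and_subset (U := (⊤ : T.Opens))
      (x := h.some) trivial
    have : U = ⊤ := eq_top_iff.mpr fun y _ => Subsingleton.elim h.some y ▸ hx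
    haveI : IsAffine (⊤ : T.Opens).toScheme := this ▸ hU
    exact .of_isIso (Scheme.topIso T).inv
  · haveI := not_nonempty_iff.mp h
    infer_instance

theorem dim_pullback_affine {U T T' : Scheme.{u}} [IsAffine U] [IsIntegral T] [Subsingleton T]
    [IsIntegral T'] [Subsingleton T'] (a : U ⟶ T) (h : T' ⟶ T) [LocallyOfFiniteType a] :
    topologicalKrullDim ↥(pullback a h) = topologicalKrullDim U := by
  haveI := isAffine_of_subsingleton T
  haveI := isAffine_of_subsingleton T'
  letI : Field Γ(T, ⊤) := (isField_Γ (T := T)).toField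
  letI : Field Γ(T', ⊤) := (isField_Γ (T := T')).toField
  letI := a.appTop.hom.toAlgebra
  letI := h.appTop.hom.toAlgebra
  haveI : Algebra.FiniteType Γ(T, ⊤) Γ(U, ⊤) :=
    HasRingHomProperty.appTop @LocallyOfFiniteType a ‹_›
  let φ := pullback.map a h (Spec.map a.appTop) (Spec.map h.appTop) U.isoSpec.hom T'.isoSpec.hom T.isoSpec.hom
    (Scheme.isoSpec_hom_naturality a).symm (Scheme.isoSpec_hom_naturality h).symm
  haveI : IsIso φ := pullback.map_isIso _ _ _ _ _ _ _ _ _
  rw [dim_eq_of_homeomorph φ.homeomorph, dim_eq_of_homeomorph U.isoSpec.hom.homeomorph]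
  exact dim_pullback_Spec Γ(T, ⊤) Γ(T', ⊤) Γ(U, ⊤)

theorem exists_affineOpen_le {Y : Scheme.{u}} {n : ℕ} (h : (n : WithBot ℕ∞) ≤ topologicalKrullDim Y) :
    ∃ U : Y.Opens, IsAffineOpen U ∧ (n : WithBot ℕ∞) ≤ topologicalKrullDim U.toScheme := by
  obtain ⟨c, hc⟩ := Unibranch.exists_chain_of_le_topologicalKrullDim h
  obtain ⟨U, hU, hlast, -⟩ := exists_isAffineOpen_mem_and_subset (U := (⊤ : Y.Opens))
    (x := c (Fin.last n)) trivial
  have hmem : ∀ i, c i ∈ U := fun i => by
    induction i using Fin.reverseInduction with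
    | last => exact hlast
    | cast j hj => exact (hc j).1.mem_open U.2 hj
  refine ⟨U, hU, Unibranch.natCast_le_topologicalKrullDim (fun i => (⟨c i, hmem i⟩ : U.toScheme)) fun i => ⟨?_, ?_⟩⟩
  · exact U.ι.isEmbedding.isInducing.specializes_iff.mp (hc i).1
  · exact fun e => (hc i).2 (congrArg Subtype.val e)

theorem dim_open_le {Y : Scheme.{u}} (U : Y.Opens) : topologicalKrullDim U.toScheme ≤ topologicalKrullDim Y :=
  U.ι.isEmbedding.isInducing.topologicalKrullDim_le

/-- dimension of a scheme locally of finite type over a field is invariant under extension of the field -/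
theorem dim_eq_of_isPullback {Y Y' T T' : Scheme.{u}} [IsIntegral T] [Subsingleton T] [IsIntegral T']
    [Subsingleton T'] (g : Y ⟶ T) (g' : Y' ⟶ T') (e : Y' ⟶ Y) (h : T' ⟶ T) [LocallyOfFiniteType g]
    (H : IsPullback e g' g h) : topologicalKrullDim Y = topologicalKrullDim Y' := by
  haveI := isAffine_of_subsingleton T
  haveI := isAffine_of_subsingleton T'
  haveI : IsAffineHom e := MorphismProperty.of_isPullback H.flip inferInstance
  have key : ∀ U : Y.Opens, IsAffineOpen U →
      topologicalKrullDim (e ⁻¹ᵁ U).toScheme = topologicalKrullDim U.toScheme := by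
    intro U hU
    haveI : IsAffine U.toScheme := hU
    have sq : IsPullback (e ∣_ U) ((e ⁻¹ᵁ U).ι ≫ g') (U.ι ≫ g) h :=
      (isPullback_morphismRestrict e U).paste_vert H
    rw [dim_eq_of_homeomorph sq.isoPullback.hom.homeomorph]
    exact dim_pullback_affine (U.ι ≫ g) h
  refine le_antisymm (Unibranch.le_of_forall_natCast_le fun n hn => ?_)
    (Unibranch.le_of_forall_natCast_le fun n hn => ?_)
  · obtain ⟨U, hU, hn'⟩ := exists_affineOpen_le hn
    exact (hn'.trans (key U hU).ge).trans (dim_open_le _)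
  · obtain ⟨c, hc⟩ := Unibranch.exists_chain_of_le_topologicalKrullDim hn
    obtain ⟨U, hU, hlast, -⟩ := exists_isAffineOpen_mem_and_subset (U := (⊤ : Y.Opens))
      (x := e (c (Fin.last n))) trivial
    have hmem : ∀ i, c i ∈ e ⁻¹ᵁ U := fun i => by
      induction i using Fin.reverseInduction with
      | last => exact hlast
      | cast j hj => exact (hc j).1.mem_open (e ⁻¹ᵁ U).2 hj
    refine ((Unibranch.natCast_le_topologicalKrullDim (α := (e ⁻¹ᵁ U).toScheme) (fun i => ⟨c i, hmem i⟩) fun i => ⟨?_, ?_⟩).trans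
      (key U hU).le).trans (dim_open_le U)
    · exact (e ⁻¹ᵁ U).ι.isEmbedding.isInducing.specializes_iff.mp (hc i).1
    · exact fun h => (hc i).2 (congrArg Subtype.val h)

end Groth.Agent.DimField
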