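import Groth.Agent.DimField.Scheme
import Groth.Agent.ConsEngine.Core
import Groth.Agent.Unibranch.UpperSemicont
import Mathlib.AlgebraicGeometry.Morphisms.FinitePresentation

universe u

open CategoryTheory AlgebraicGeometry Topology

namespace Groth.Agent.DimField

theorem interior_nonempty_of_genericPoint_mem {S : Scheme.{u}} [IrreducibleSpace S] {E : Set S}
    (hE : IsConstructible E) (h : genericPoint S ∈ E) : (interior E).Nonempty := by
  suffices H : (genericPoint S ∈ E → (interior E).Nonempty) ∧ (genericPoint S ∉ E → (interior Eᶜ).Nonempty) from H.1 h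
  clear h
  induction hE using IsConstructible.empty_union_induction with
  | open_retrocompact U hU _ =>
    refine ⟨fun h => ⟨_, hU.interior_eq.symm ▸ h⟩, fun h => ?_⟩
    have : U = ∅ := Set.eq_empty_of_forall_notMem fun y hy => h ((genericPoint_specializes y).mem_open hU hy)
    rw [this, Set.compl_empty, interior_univ]
    exact Set.univ_nonempty
  | union s hs t ht hs' ht' =>
    refine ⟨fun h => ?_, fun h => ?_⟩
    · rcases h with h | h
      · exact (hs'.1 h).mono (interior_mono Set.subset_union_left)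
      · exact (ht'.1 h).mono (interior_mono Set.subset_union_right)
    · rw [Set.compl_union, interior_inter]
      obtain ⟨a, ha⟩ := hs'.2 fun h' => h (Or.inl h')
      obtain ⟨b, hb⟩ := ht'.2 fun h' => h (Or.inr h')
      exact ⟨_, (genericPoint_specializes a).mem_open isOpen_interior ha,
        (genericPoint_specializes b).mem_open isOpen_interior hb⟩
  | compl s hs hs' => exact ⟨fun h => hs'.2 h, fun h => by rw [compl_compl]; exact hs'.1 (not_not.mp h)⟩

variable {X Y : Scheme.{u}} (f : X ⟶ Y)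

theorem dim_fiber_le_iff [LocallyOfFiniteType f] (y : Y) {n : ℕ} :
    (n : WithBot ℕ∞) ≤ topologicalKrullDim ↥(f.fiber y) ↔
      y ∈ f '' {x : X | (n : WithBot ℕ∞) ≤ FlatMor.fibreDimAt f x} := by
  have hdim : ((n : WithBot ℕ∞) ≤ topologicalKrullDim ↥(f.fiber y)) ↔
      Unibranch.HasChain f (Set.univ : Set X) y n := by
    refine Unibranch.natCast_le_topologicalKrullDim_iff f (f.fiberι y).isEmbedding ?_
    rw [Scheme.Hom.range_fiberι, Set.univ_inter]
  constructor
  · intro h
    obtain ⟨c, hc, hc'⟩ := hdim.mp h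
    refine ⟨c (Fin.last n), (Unibranch.natCast_le_fibreDimAt_iff f _).mpr fun U hU => ⟨c, fun i => ⟨?_, ?_⟩, hc'⟩,
      (hc _).2⟩
    · refine (show c i ⤳ c (Fin.last n) from ?_).mem_open U.2 hU
      induction i using Fin.reverseInduction with
      | last => exact specializes_rfl
      | cast j hj => exact (hc' j).1.trans hj
    · rw [(hc i).2, (hc (Fin.last n)).2]
  · rintro ⟨x, hx, rfl⟩
    exact hdim.mpr (((Unibranch.natCast_le_fibreDimAt_iff f x).mp hx ⊤ trivial).mono (Set.subset_univ _))

theorem isClosed_le_fibreDimAt [LocallyOfFiniteType f] (n : ℕ) :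
    IsClosed {x : X | (n : WithBot ℕ∞) ≤ FlatMor.fibreDimAt f x} := by
  refine ⟨isOpen_iff_forall_mem_open.mpr fun x hx => ?_⟩
  obtain ⟨d, hd⟩ := Unibranch.exists_fibreDimAt_eq f x
  have hdn : d < n := by
    by_contra h
    exact hx (show (n : WithBot ℕ∞) ≤ FlatMor.fibreDimAt f x by rw [hd]; exact_mod_cast not_lt.mp h)
  obtain ⟨U, hxU, hU⟩ := (Unibranch.fibreDimAt_le_iff f x).mp hd.le
  obtain ⟨U', hxU', -, hU'⟩ := Unibranch.exists_opens_chainsLE f hxU hU
  refine ⟨U', fun z hz (hnz : (n : WithBot ℕ∞) ≤ _) => ?_, U'.2, hxU'⟩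
  have := hnz.trans ((Unibranch.fibreDimAt_le_iff f z).mpr ⟨U', hz, hU' _⟩)
  exact absurd (show n ≤ d by exact_mod_cast this) (by omega)

theorem isConstructible_le_dim_fiber [IsNoetherian Y] [LocallyOfFiniteType f] [QuasiCompact f] (n : ℕ) :
    IsConstructible {y : Y | (n : WithBot ℕ∞) ≤ topologicalKrullDim ↥(f.fiber y)} := by
  haveI : LocallyOfFinitePresentation f := ConsEngine.lfp_of_lft f
  haveI : IsLocallyNoetherian X := LocallyOfFiniteType.isLocallyNoetherian f
  haveI : CompactSpace X := QuasiCompact.compactSpace_of_compactSpace f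
  haveI : IsNoetherian X := {}
  have e : {y : Y | (n : WithBot ℕ∞) ≤ topologicalKrullDim ↥(f.fiber y)} =
      f '' {x : X | (n : WithBot ℕ∞) ≤ FlatMor.fibreDimAt f x} := Set.ext fun y => dim_fiber_le_iff f y
  rw [e]
  refine f.isConstructible_image ?_
  rw [← compl_compl {x : X | (n : WithBot ℕ∞) ≤ FlatMor.fibreDimAt f x}]
  exact ((TopologicalSpace.NoetherianSpace.isCompact _).isConstructible
    (isClosed_le_fibreDimAt f n).isOpen_compl).compl

theorem natCast_add_one_le {a : WithBot ℕ∞} {d : ℕ} (ha : (d : WithBot ℕ∞) < a) :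
    ((d + 1 : ℕ) : WithBot ℕ∞) ≤ a := by
  cases a with
  | bot => exact absurd ha not_lt_bot
  | coe a =>
    refine WithBot.coe_le_coe.mpr ?_
    exact_mod_cast (ENat.add_one_le_iff (ENat.natCast_ne_top d)).mpr (WithBot.coe_lt_coe.mp ha)

/-- the set of points with fibre dimension equal to that of a given fibre -/
theorem isConstructible_dim_fiber_eq [IsNoetherian Y] [LocallyOfFiniteType f] [QuasiCompact f] (y₀ : Y) :
    IsConstructible {y : Y | topologicalKrullDim ↥(f.fiber y) = topologicalKrullDim ↥(f.fiber y₀)} := by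
  obtain h | ⟨d, hd⟩ : topologicalKrullDim ↥(f.fiber y₀) = ⊥ ∨
      ∃ d : ℕ, topologicalKrullDim ↥(f.fiber y₀) = (d : WithBot ℕ∞) := by
    haveI : CompactSpace X := QuasiCompact.compactSpace_of_compactSpace f
    by_cases hE : IsEmpty ↥(f.fiber y₀)
    · left
      haveI : IsEmpty (TopologicalSpace.IrreducibleCloseds ↥(f.fiber y₀)) := ⟨fun Z => hE.false Z.2.nonempty.some⟩
      exact Order.krullDim_eq_bot
    · right
      obtain ⟨x⟩ := not_isEmpty_iff.mp hE
      have : ∀ z : ↥(f.fiber y₀), ∃ d : ℕ, ∃ U : X.Opens, f.fiberι y₀ z ∈ U ∧ ∀ y, Unibranch.ChainsLE f U y d := fun z => by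
        obtain ⟨d, hd⟩ := Unibranch.exists_fibreDimAt_eq f (f.fiberι y₀ z)
        obtain ⟨U, hxU, hU⟩ := (Unibranch.fibreDimAt_le_iff f _).mp hd.le
        obtain ⟨U', hxU', -, hU'⟩ := Unibranch.exists_opens_chainsLE f hxU hU
        exact ⟨d, U', hxU', hU'⟩
      choose d U hxU hU using this
      obtain ⟨s, hs⟩ := isCompact_univ.elim_finite_subcover (fun z => f.fiberι y₀ ⁻¹' (U z : Set X))
        (fun z => (U z).2.preimage (f.fiberι y₀).continuous) (fun z _ => Set.mem_iUnion.mpr ⟨z, hxU z⟩)
      have hle : topologicalKrullDim ↥(f.fiber y₀) ≤ ((s.sup d : ℕ) : WithBot ℕ∞) := by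
        refine Unibranch.topologicalKrullDim_le_natCast fun k c hc => ?_
        obtain ⟨z, hz, hlast⟩ := Set.mem_iUnion₂.mp (hs (Set.mem_univ (c (Fin.last k))))
        refine le_trans (hU z y₀ k (fun i => f.fiberι y₀ (c i)) (fun i => ⟨?_, ?_⟩) fun i => ⟨?_, ?_⟩)
          (Finset.le_sup hz)
        · refine (show f.fiberι y₀ (c i) ⤳ f.fiberι y₀ (c (Fin.last k)) from ?_).mem_open (U z).2 hlast
          induction i using Fin.reverseInduction with
          | last => exact specializes_rfl
          | cast j hj => exact ((hc j).1.map (f.fiberι y₀).continuous).trans hj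
        · exact (f.range_fiberι y₀).le ⟨c i, rfl⟩
        · exact (hc i).1.map (f.fiberι y₀).continuous
        · exact fun e => (hc i).2 ((f.fiberι y₀).isEmbedding.injective e)
      have h0 : ((0 : ℕ) : WithBot ℕ∞) ≤ topologicalKrullDim ↥(f.fiber y₀) :=
        Unibranch.natCast_le_topologicalKrullDim (fun _ : Fin 1 => x) fun i => i.elim0
      classical
      let P := fun k : ℕ => (k : WithBot ℕ∞) ≤ topologicalKrullDim ↥(f.fiber y₀)
      refine ⟨Nat.findGreatest P (s.sup d), le_antisymm (Unibranch.le_of_forall_natCast_le fun k hk => ?_)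
        (Nat.findGreatest_spec (P := P) (Nat.zero_le _) h0)⟩
      exact_mod_cast Nat.le_findGreatest (P := P) (by exact_mod_cast hk.trans hle) hk
  · have e : {y : Y | topologicalKrullDim ↥(f.fiber y) = topologicalKrullDim ↥(f.fiber y₀)} =
        {y : Y | ((0 : ℕ) : WithBot ℕ∞) ≤ topologicalKrullDim ↥(f.fiber y)}ᶜ := by
      ext y
      simp only [Set.mem_setOf_eq, Set.mem_compl_iff, h]
      refine ⟨fun e => by rw [e]; exact fun h => absurd (le_bot_iff.mp h) (WithBot.natCast_ne_bot 0), fun hn => ?_⟩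
      by_contra hne
      cases hd : topologicalKrullDim ↥(f.fiber y) with
      | bot => exact hne hd
      | coe a => exact hn (by rw [hd]; exact WithBot.coe_le_coe.mpr (zero_le))
    rw [e]
    exact (isConstructible_le_dim_fiber f 0).compl
  · have e : {y : Y | topologicalKrullDim ↥(f.fiber y) = topologicalKrullDim ↥(f.fiber y₀)} =
        {y : Y | (d : WithBot ℕ∞) ≤ topologicalKrullDim ↥(f.fiber y)} \
          {y : Y | ((d + 1 : ℕ) : WithBot ℕ∞) ≤ topologicalKrullDim ↥(f.fiber y)} := by
      ext y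
      simp only [Set.mem_setOf_eq, Set.mem_sdiff, hd]
      refine ⟨fun h => ⟨h.ge, fun h' => by rw [h] at h'; exact absurd (show d + 1 ≤ d by exact_mod_cast h') (by omega)⟩,
        fun ⟨h1, h2⟩ => ?_⟩
      by_contra hne
      exact h2 (natCast_add_one_le (lt_of_le_of_ne h1 (Ne.symm hne)))
    rw [e]
    exact (isConstructible_le_dim_fiber f d).sdiff (isConstructible_le_dim_fiber f (d + 1))

end Groth.Agent.DimField
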