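import Groth.Agent.Unibranch.Noether
import Mathlib.RingTheory.TensorProduct.MvPolynomial
import Mathlib.RingTheory.Flat.Basic

universe u

open TensorProduct

namespace Groth.Agent.DimField

/-- dimension of a finitely generated algebra over a field is invariant under extension of the field -/
theorem ringKrullDim_tensor (K L A : Type u) [Field K] [Field L] [Algebra K L] [CommRing A] [Algebra K A]
    [Algebra.FiniteType K A] : ringKrullDim (L ⊗[K] A) = ringKrullDim A := by
  rcases subsingleton_or_nontrivial A with hA | hA
  · haveI : Subsingleton (L ⊗[K] A) := inferInstance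
    rw [ringKrullDim_eq_bot_of_subsingleton, ringKrullDim_eq_bot_of_subsingleton]
  haveI : Nontrivial (L ⊗[K] A) := inferInstance
  obtain ⟨s, g, hgi, hgf⟩ := exists_finite_inj_algHom_of_fg K A
  rw [Unibranch.ringKrullDim_eq_of_finite_inj g hgi hgf]
  let m : L ⊗[K] MvPolynomial (Fin s) K →ₐ[L] L ⊗[K] A := Algebra.TensorProduct.map (AlgHom.id L L) g
  let e := (MvPolynomial.algebraTensorAlgEquiv (σ := Fin s) K L).symm
  have hm : Function.Injective m := by
    show Function.Injective (LinearMap.lTensor L g.toLinearMap)
    exact Module.Flat.lTensor_preserves_injective_linearMap g.toLinearMap hgi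
  refine Unibranch.ringKrullDim_eq_of_finite_inj (m.comp e.toAlgHom) (hm.comp e.injective) ?_
  have hf : m.Finite := by
    letI := g.toRingHom.toAlgebra
    letI := m.toRingHom.toAlgebra
    obtain ⟨S, hS⟩ := (hgf : Module.Finite (MvPolynomial (Fin s) K) A).fg_top
    classical
    refine ⟨⟨S.image fun a => (1 : L) ⊗ₜ[K] a, ?_⟩⟩
    refine eq_top_iff.mpr fun z _ => ?_
    induction z using TensorProduct.induction_on with
    | zero => exact Submodule.zero_mem _
    | add x y hx hy => exact Submodule.add_mem _ (hx trivial) (hy trivial)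
    | tmul l a =>
      have ha : a ∈ Submodule.span (MvPolynomial (Fin s) K) (S : Set A) := hS ▸ trivial
      induction ha using Submodule.span_induction generalizing l with
      | mem a ha =>
        have : l ⊗ₜ[K] a = (l ⊗ₜ[K] (1 : MvPolynomial (Fin s) K)) • ((1 : L) ⊗ₜ[K] a) := by
          show _ = m (l ⊗ₜ[K] 1) * ((1 : L) ⊗ₜ[K] a)
          simp [m]
        rw [this]
        exact Submodule.smul_mem _ _ (Submodule.subset_span (Finset.mem_coe.mpr (Finset.mem_image_of_mem _ ha)))
      | zero => rw [TensorProduct.tmul_zero]; exact Submodule.zero_mem _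
      | add x y _ _ hx hy => rw [TensorProduct.tmul_add]; exact Submodule.add_mem _ (hx l trivial) (hy l trivial)
      | smul p x _ hx =>
        have : l ⊗ₜ[K] (p • x) = (((1 : L) ⊗ₜ[K] p)) • (l ⊗ₜ[K] x) := by
          show l ⊗ₜ[K] (g p * x) = m ((1 : L) ⊗ₜ[K] p) * (l ⊗ₜ[K] x)
          simp [m]
        rw [this]
        exact Submodule.smul_mem _ _ (hx l trivial)
  exact RingHom.Finite.comp hf (RingHom.Finite.of_surjective _ e.surjective)

end Groth.Agent.DimField
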